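import Groth.Agent.Lib.LimH13.NhdLimit
import Groth.Agent.Lib.RedSep.Basic
import Mathlib.CategoryTheory.Limits.Constructions.Over.Connected
import Mathlib.AlgebraicGeometry.Morphisms.QuasiSeparated
import Mathlib.RingTheory.KrullDimension.Zero

/-!
# A property of schemes over a base that descends to closed or open pieces reaches a field point
-/

universe u

open CategoryTheory Limits AlgebraicGeometry Opposite TopologicalSpace

set_option backward.isDefEq.respectTransparency false
set_option backward.isDefEq.respectTransparency.types false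
set_option linter.style.haveILetI false

noncomputable section

namespace Groth.Agent.MinPoint13

variable {T : Scheme.{u}} {ι : Type u} [Preorder ι] (J : ι → T.IdealSheafData) (hJ : Monotone J)

/-- The system of closed subschemes of a monotone family of ideals. -/
def supDiag : ιᵒᵖ ⥤ Over T :=
  hJ.functor.op ⋙ Scheme.IdealSheafData.subschemeFunctor T

/-- The cone at the supremum. -/
def supCone : Cone (supDiag J hJ) where
  pt := Over.mk (iSup J).subschemeι
  π :=
    { app := fun a => Over.homMk (Scheme.IdealSheafData.inclusion (le_iSup J a.unop))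
        (Scheme.IdealSheafData.inclusion_subschemeι _)
      naturality := fun a b h => by
        refine Over.OverMorphism.ext ((cancel_mono (J b.unop).subschemeι).mp ?_)
        change (𝟙 _ ≫ Scheme.IdealSheafData.inclusion (le_iSup J b.unop)) ≫ _ =
          (Scheme.IdealSheafData.inclusion (le_iSup J a.unop) ≫
            Scheme.IdealSheafData.inclusion (hJ h.unop.le)) ≫ _
        rw [Category.id_comp, Category.assoc]
        exact (Scheme.IdealSheafData.inclusion_subschemeι _).trans
          ((congrArg (Scheme.IdealSheafData.inclusion (le_iSup J a.unop) ≫ ·)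
            (Scheme.IdealSheafData.inclusion_subschemeι _)).trans
            (Scheme.IdealSheafData.inclusion_subschemeι _)).symm }

/-- The closed subscheme of a supremum of ideals is the limit. -/
def isLimitSupCone : IsLimit (supCone J hJ) :=
  have H : ∀ s : Cone (supDiag J hJ), (iSup J).subschemeι.ker ≤ s.pt.hom.ker := fun s => by
    rw [Scheme.IdealSheafData.ker_subschemeι]
    refine iSup_le fun i => ?_
    have hw : (s.π.app (op i)).left ≫ (J i).subschemeι = s.pt.hom := Over.w (s.π.app (op i))
    calc J i = (J i).subschemeι.ker := (Scheme.IdealSheafData.ker_subschemeι _).symm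
      _ ≤ _ := Scheme.Hom.le_ker_comp (s.π.app (op i)).left (J i).subschemeι
      _ = s.pt.hom.ker := by rw [hw]
  { lift := fun s => Over.homMk (IsClosedImmersion.lift _ s.pt.hom (H s))
      (IsClosedImmersion.lift_fac _ _ _)
    fac := fun s a => by
      refine Over.OverMorphism.ext ((cancel_mono (J a.unop).subschemeι).mp ?_)
      change (IsClosedImmersion.lift (iSup J).subschemeι s.pt.hom (H s) ≫
        Scheme.IdealSheafData.inclusion (le_iSup J a.unop)) ≫ _ = _
      rw [Category.assoc]
      exact (congrArg (IsClosedImmersion.lift (iSup J).subschemeι s.pt.hom (H s) ≫ ·)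
        (Scheme.IdealSheafData.inclusion_subschemeι _)).trans
        ((IsClosedImmersion.lift_fac _ _ _).trans (Over.w (s.π.app a)).symm)
    uniq := fun s m _ => by
      refine Over.OverMorphism.ext ((cancel_mono (iSup J).subschemeι).mp ?_)
      simp only [Over.homMk_left, IsClosedImmersion.lift_fac]
      exact Over.w m }

omit [Preorder ι] in
theorem qcqs_subscheme [CompactSpace T] [QuasiSeparatedSpace T] (I : T.IdealSheafData) :
    CompactSpace I.subscheme ∧ QuasiSeparatedSpace I.subscheme :=
  ⟨QuasiCompact.compactSpace_of_compactSpace I.subschemeι,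
    quasiSeparatedSpace_of_quasiSeparated I.subschemeι⟩

/-- The reduced closed subscheme with given support. -/
abbrev red (C : Closeds T) : (Scheme.IdealSheafData.vanishingIdeal C).subscheme ⟶ T :=
  (Scheme.IdealSheafData.vanishingIdeal C).subschemeι

theorem range_red (C : Closeds T) : Set.range (red C) = (C : Set T) := by
  rw [red, Scheme.IdealSheafData.range_subschemeι, Scheme.IdealSheafData.coe_support_vanishingIdeal]

variable (P : ∀ ⦃T' : Scheme.{u}⦄, (T' ⟶ T) → Prop)
    (h1 : ∀ ⦃T' T'' : Scheme.{u}⦄ (a : T' ⟶ T) (t : T'' ⟶ T') [IsClosedImmersion t] [Surjective t]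
      [CompactSpace T'] [QuasiSeparatedSpace T'] [CompactSpace T''] [QuasiSeparatedSpace T''], P (t ≫ a) ↔ P a)
    (h2 : ∀ ⦃I : Type u⦄ [SmallCategory I] [IsCofiltered I] (D : I ⥤ Over T) (c : Limits.Cone D) (_ : Limits.IsLimit c),
      (∀ (i j : I) (m : i ⟶ j), IsAffineHom (D.map m).left) →
      (∀ i, CompactSpace (D.obj i).left ∧ QuasiSeparatedSpace (D.obj i).left) →
      (∀ i, P (D.obj i).hom) → P c.pt.hom)
    (h3 : ∀ ⦃T' Z V : Scheme.{u}⦄ (a : T' ⟶ T) [CompactSpace T'] [QuasiSeparatedSpace T'] (i : Z ⟶ T') [IsClosedImmersion i]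
      (j : V ⟶ T') [IsOpenImmersion j] [CompactSpace V], Set.range j = (Set.range i)ᶜ → P a → P (j ≫ a) ∨ P (i ≫ a))

omit [Preorder ι] in
include h1 in
/-- A closed subscheme has the property if and only if its reduction has it. -/
theorem iff_red [CompactSpace T] [QuasiSeparatedSpace T] {X : Scheme.{u}} (g : X ⟶ T)
    [IsClosedImmersion g] (C : Closeds T) (hC : Set.range g = (C : Set T)) :
    P g ↔ P (red C) := by
  haveI : CompactSpace X := QuasiCompact.compactSpace_of_compactSpace g
  haveI : QuasiSeparatedSpace X := quasiSeparatedSpace_of_quasiSeparated g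
  obtain ⟨hq1, hq2⟩ := qcqs_subscheme (Scheme.IdealSheafData.vanishingIdeal C)
  have hle : g.ker ≤ (red C).ker := by
    rw [Scheme.IdealSheafData.ker_subschemeι, ← Scheme.IdealSheafData.le_support_iff_le_vanishingIdeal,
      SetLike.le_def]
    intro x hx
    change x ∈ (g.ker.support : Set T)
    rw [Scheme.Hom.support_ker, hC]
    exact subset_closure hx
  let t := IsClosedImmersion.lift g (red C) hle
  have ht : t ≫ g = red C := IsClosedImmersion.lift_fac _ _ _
  haveI : IsClosedImmersion (t ≫ g) := by rw [ht]; infer_instance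
  haveI : IsClosedImmersion t := IsClosedImmersion.of_comp t g
  haveI : Surjective t := by
    refine ⟨fun x => ?_⟩
    have : g x ∈ Set.range (red C) := by rw [range_red, ← hC]; exact ⟨x, rfl⟩
    obtain ⟨y, hy⟩ := this
    refine ⟨y, g.isClosedEmbedding.injective ?_⟩
    rw [← hy, ← ht]
    rfl
  rw [← ht]
  exact (h1 g t).symm

omit [Preorder ι] in
include h1 h2 in
/-- A minimal nonempty closed subset with the property. -/
theorem exists_minimal [CompactSpace T] [QuasiSeparatedSpace T] [Nonempty T] (hT : P (𝟙 T)) :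
    ∃ C : Set T, Minimal (fun s : Set T => IsClosed s ∧ s.Nonempty ∧ ∀ h : IsClosed s, P (red ⟨s, h⟩)) C := by
  let S : Set (Set T) := {s | IsClosed s ∧ s.Nonempty ∧ ∀ h : IsClosed s, P (red ⟨s, h⟩)}
  have huniv : (Set.univ : Set T) ∈ S :=
    ⟨isClosed_univ, Set.univ_nonempty, fun h =>
      (iff_red P h1 (𝟙 T) ⟨_, h⟩ (by simp)).1 hT⟩
  have key : ∀ c ⊆ S, IsChain (fun a b : Set T => a ⊆ b) c → c.Nonempty → ∃ lb ∈ S, ∀ s ∈ c, lb ⊆ s := by
    intro c hcS hchain hne
    haveI : Nonempty c := hne.to_subtype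
    have hnb : (⋂₀ c).Nonempty := IsCompact.nonempty_sInter_of_directed_nonempty_isCompact_isClosed
      (fun a ha b hb => (hchain.total ha hb).elim (fun h => ⟨a, ha, subset_rfl, h⟩) (fun h => ⟨b, hb, h, subset_rfl⟩))
      (fun U hU => (hcS hU).2.1) (fun U hU => (hcS hU).1.isCompact) (fun U hU => (hcS hU).1)
    refine ⟨⋂₀ c, ⟨isClosed_sInter fun U hU => (hcS hU).1, hnb, fun h => ?_⟩, fun s hs => Set.sInter_subset_of_mem hs⟩
    let I := {s : (Set T)ᵒᵈ // OrderDual.ofDual s ∈ c}
    haveI : Nonempty I := ⟨⟨OrderDual.toDual hne.some, hne.some_mem⟩⟩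
    haveI : IsDirected I (fun a b => a ≤ b) := ⟨fun a b =>
      (hchain.total a.2 b.2).elim (fun h => ⟨a, le_refl _, h⟩) (fun h => ⟨b, h, le_refl _⟩)⟩
    let K : I → Closeds T := fun a => ⟨OrderDual.ofDual a.1, (hcS a.2).1⟩
    let J : I → T.IdealSheafData := fun a => Scheme.IdealSheafData.vanishingIdeal (K a)
    have hJ : Monotone J := fun a b hab => Scheme.IdealSheafData.vanishingIdeal_antimono
      (show K b ≤ K a from hab)
    haveI : IsFiltered I := isFiltered_of_directed_le_nonempty _
    have hP : P (iSup J).subschemeι := h2 (supDiag J hJ) (supCone J hJ) (isLimitSupCone J hJ)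
      (fun a b m => inferInstanceAs (IsAffineHom (Scheme.IdealSheafData.inclusion (hJ m.unop.le))))
      (fun a => qcqs_subscheme _) (fun a => (hcS a.unop.2).2.2 _)
    refine (iff_red P h1 _ ⟨_, h⟩ ?_).1 hP
    rw [Scheme.IdealSheafData.range_subschemeι, Scheme.IdealSheafData.support_iSup, Closeds.coe_iInf]
    ext x
    simp only [J, K, Scheme.IdealSheafData.coe_support_vanishingIdeal, Closeds.coe_mk, Set.mem_iInter]
    exact ⟨fun hx U hU => hx ⟨OrderDual.toDual U, hU⟩, fun hx a => hx _ a.2⟩
  obtain ⟨C, -, hC⟩ := zorn_superset_nonempty S key Set.univ huniv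
  exact ⟨C, hC⟩

omit [Preorder ι] in
theorem isField_stalk_of_specializes {Z : Scheme.{u}} [IsReduced Z] (η : Z)
    (hη : ∀ y : Z, y ⤳ η → y = η) : IsField (Z.presheaf.stalk η) := by
  refine (PrimeSpectrum.subsingleton_iff_isField_of_isReduced).1 ⟨fun p q => ?_⟩
  apply (Z.fromSpecStalk η).isEmbedding.injective
  have h : ∀ r, Z.fromSpecStalk η r = η := fun r => hη _ (by
    have : Z.fromSpecStalk η r ∈ Set.range (Z.fromSpecStalk η) := ⟨r, rfl⟩
    rwa [Scheme.range_fromSpecStalk] at this)
  exact (h p).trans (h q).symm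

omit [Preorder ι] in
include h1 h2 h3 in
/-- The theorem. -/
theorem exists_field_point [CompactSpace T] [QuasiSeparatedSpace T] [Nonempty T] (hT : P (𝟙 T)) :
    ∃ (K : Type u) (_ : Field K) (t : Spec (CommRingCat.of K) ⟶ T), P t := by
  obtain ⟨C₀, ⟨hcl, hne, hPC⟩, hmin⟩ := exists_minimal P h1 h2 hT
  let C : Closeds T := ⟨C₀, hcl⟩
  let Z := (Scheme.IdealSheafData.vanishingIdeal C).subscheme
  let a : Z ⟶ T := red C
  haveI : IsReduced Z := RedSepLib.isReduced_vanishingIdeal_subscheme C
  obtain ⟨hq1, hq2⟩ : CompactSpace Z ∧ QuasiSeparatedSpace Z := qcqs_subscheme _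
  have hPa : P a := hPC hcl
  haveI : IsClosedImmersion a := inferInstanceAs (IsClosedImmersion (red C))
  -- a maximal point
  have hZne : Nonempty Z := by
    obtain ⟨x, hx⟩ := hne
    rw [show C₀ = Set.range a from (range_red C).symm] at hx
    exact ⟨hx.choose⟩
  obtain ⟨η, hη⟩ : ∃ η : Z, ∀ y : Z, y ⤳ η → y = η := by
    let W := irreducibleComponent hZne.some
    have hW : IsIrreducible W := isIrreducible_irreducibleComponent
    have hWc : IsClosed W := isClosed_irreducibleComponent
    have hg := hW.isGenericPoint_genericPoint hWc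
    refine ⟨hW.genericPoint, fun y hy => (hy.antisymm ?_).eq⟩
    have hmax := (irreducibleComponent_property hZne.some).2.2 (closure {y}) isPreirreducible_singleton.closure
      (by change W ⊆ _; exact hg.def ▸ specializes_iff_closure_subset.1 hy)
    refine hg.specializes ?_
    exact hmax.le (subset_closure rfl)
  -- every quasi-compact open containing η has the property
  have hopen : ∀ W : Z.Opens, η ∈ W → IsCompact (W : Set Z) → P (W.ι ≫ a) := by
    intro W hW hWq
    haveI : CompactSpace W := isCompact_iff_compactSpace.1 hWq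
    haveI : QuasiSeparatedSpace W := quasiSeparatedSpace_of_quasiSeparated W.ι
    by_cases htop : W = ⊤
    · subst htop
      haveI : IsIso (Scheme.Opens.ι (X := Z) ⊤) := inferInstanceAs (IsIso Z.topIso.hom)
      exact (h1 a _).2 hPa
    let K : Closeds Z := W.compl
    let i := red K
    have hr : Set.range W.ι = (Set.range i)ᶜ := by
      rw [range_red, Scheme.Opens.range_ι]
      simp [K]
    refine (h3 a i W.ι hr hPa).resolve_right fun hPi => htop ?_
    let D : Closeds T := ⟨Set.range (i ≫ a), (i ≫ a).isClosedEmbedding.isClosed_range⟩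
    have hD : P (red D) := (iff_red P h1 (i ≫ a) D rfl).1 hPi
    by_contra htop'
    obtain ⟨x, hx⟩ : ∃ x : Z, x ∉ W := by
      by_contra! h
      exact htop' (top_unique fun x _ => h x)
    have hDsub : (D : Set T) ⊆ C₀ := by
      rintro _ ⟨z, rfl⟩
      exact (range_red C).le ⟨i z, rfl⟩
    have hDne : (D : Set T).Nonempty := by
      obtain ⟨z, hz⟩ : x ∈ Set.range i := by rw [range_red]; exact hx
      exact ⟨_, z, rfl⟩
    obtain ⟨z, hz⟩ : a η ∈ (D : Set T) := hmin ⟨D.isClosed, hDne, fun _ => hD⟩ hDsub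
      ((range_red C).le ⟨η, rfl⟩)
    have : i z = η := a.isClosedEmbedding.injective hz
    have : η ∈ Set.range i := ⟨z, this⟩
    rw [range_red] at this
    exact this hW
  -- the limit at η
  obtain ⟨_, ⟨V, hV, rfl⟩, hηV, -⟩ := Z.isBasis_affineOpens.exists_subset_of_mem_open
    (Set.mem_univ η) isOpen_univ
  let Vo : Z.affineOpens := ⟨V, hV⟩
  haveI := LimH13.Nhd.isDirected η Vo
  haveI : Nonempty (LimH13.Nhd.Idx η Vo) :=
    ⟨⟨1, by rw [Scheme.basicOpen_of_isUnit _ isUnit_one]; exact hηV⟩⟩
  haveI : IsFiltered (LimH13.Nhd.Idx η Vo) := isFiltered_of_directed_le_nonempty _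
  haveI : IsConnected (LimH13.Nhd.Idx η Vo)ᵒᵖ := IsCofiltered.isConnected _
  let D : (LimH13.Nhd.Idx η Vo)ᵒᵖ ⥤ Over T :=
    { obj := fun h => Over.mk ((Z.basicOpen h.unop.1).ι ≫ a)
      map := fun {h h'} m => Over.homMk ((LimH13.Nhd.diag η Vo).map m) (by
        change Z.homOfLE ((LimH13.Nhd.le_iff η Vo).1 m.unop.le) ≫ (Z.basicOpen h'.unop.1).ι ≫ a =
          (Z.basicOpen h.unop.1).ι ≫ a
        exact Scheme.homOfLE_ι_assoc Z ((LimH13.Nhd.le_iff η Vo).1 m.unop.le) a)
      map_id := fun h => Over.OverMorphism.ext ((LimH13.Nhd.diag η Vo).map_id h)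
      map_comp := fun f g => Over.OverMorphism.ext ((LimH13.Nhd.diag η Vo).map_comp f g) }
  let c : Cone D :=
    { pt := Over.mk (Z.fromSpecStalk η ≫ a)
      π :=
        { app := fun h => Over.homMk ((LimH13.Nhd.cone η Vo).π.app h) (by
            change (Z.basicOpen h.unop.1).fromSpecStalkOfMem η h.unop.2 ≫ _ ≫ a = _
            exact Scheme.Opens.fromSpecStalkOfMem_ι_assoc _ _ _ a)
          naturality := fun h h' m => Over.OverMorphism.ext ((LimH13.Nhd.cone η Vo).π.naturality m) } }
  have hc : IsLimit c := isLimitOfReflects (Over.forget T) (LimH13.Nhd.isLimit η Vo hηV)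
  have hP : P (Z.fromSpecStalk η ≫ a) := h2 D c hc (fun h h' m => LimH13.Nhd.isAffineHom_map η Vo m)
    (fun h => by
      exact ⟨isCompact_iff_compactSpace.1 (hV.basicOpen _).isCompact,
        quasiSeparatedSpace_of_quasiSeparated (Z.basicOpen h.unop.1).ι⟩)
    (fun h => hopen _ h.unop.2 (hV.basicOpen _).isCompact)
  exact ⟨Z.presheaf.stalk η, (isField_stalk_of_specializes η hη).toField, Z.fromSpecStalk η ≫ a, hP⟩

end Groth.Agent.MinPoint13
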